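import Mathlib.CategoryTheory.EffectiveEpi.Basic
import Mathlib.CategoryTheory.MorphismProperty.Limits
import Mathlib.CategoryTheory.Limits.Shapes.Pullback.IsPullback.Basic

/-!
# Universal effective epimorphisms
-/

set_option autoImplicit false

universe v u

open CategoryTheory CategoryTheory.Limits

namespace Groth.Agent.DescCat8

variable {C : Type u} [Category.{v} C]

/-- Effective epimorphisms as a property. -/
abbrev EE : MorphismProperty C := fun (A B : C) (p : A ⟶ B) => EffectiveEpi p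

theorem effectiveEpi_of_UEE {X Y : C} {f : X ⟶ Y} (h : EE.universally f) : EffectiveEpi f :=
  MorphismProperty.universally_le EE f h

theorem epi_of_UEE {X Y : C} {f : X ⟶ Y} (h : EE.universally f) : Epi f :=
  haveI := effectiveEpi_of_UEE h
  inferInstance

theorem universally_epi_of_UEE {X Y : C} {f : X ⟶ Y} (h : EE.universally f) :
    (MorphismProperty.epimorphisms C).universally f :=
  fun _ _ i₁ i₂ f' hsq =>
    haveI : EffectiveEpi f' := h i₁ i₂ f' hsq
    MorphismProperty.epimorphisms.infer_property f'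

variable [HasPullbacks C]

theorem UEE_pullback_fst {X Y Z : C} {f : X ⟶ Y} (h : EE.universally f) (g : Z ⟶ Y) :
    EE.universally (pullback.fst g f) :=
  MorphismProperty.of_isPullback (IsPullback.of_hasPullback g f).flip h

theorem UEE_pullback_snd {X Y Z : C} {f : X ⟶ Y} (h : EE.universally f) (g : Z ⟶ Y) :
    EE.universally (pullback.snd f g) :=
  MorphismProperty.of_isPullback (IsPullback.of_hasPullback f g) h

/-- A pair of morphisms into the target of a universal epimorphism lifts to the source after an epimorphism. -/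
theorem exists_epi_lift {U T Z : C} {v : U ⟶ T} (hv : (MorphismProperty.epimorphisms C).universally v)
    (g₁ g₂ : Z ⟶ T) : ∃ (Z' : C) (q : Z' ⟶ Z) (a₁ a₂ : Z' ⟶ U), Epi q ∧ a₁ ≫ v = q ≫ g₁ ∧ a₂ ≫ v = q ≫ g₂ := by
  have h1 : Epi (pullback.snd v g₁) := hv _ _ _ (IsPullback.of_hasPullback v g₁).flip
  have h2 : Epi (pullback.snd v (pullback.snd v g₁ ≫ g₂)) := hv _ _ _ (IsPullback.of_hasPullback v _).flip
  refine ⟨_, pullback.snd v (pullback.snd v g₁ ≫ g₂) ≫ pullback.snd v g₁,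
    pullback.snd v (pullback.snd v g₁ ≫ g₂) ≫ pullback.fst v g₁, pullback.fst v (pullback.snd v g₁ ≫ g₂),
    epi_comp _ _, ?_, ?_⟩
  · rw [Category.assoc, Category.assoc, pullback.condition]
  · rw [Category.assoc, pullback.condition]

theorem effectiveEpi_comp {U T S : C} (v : U ⟶ T) (u : T ⟶ S) [EffectiveEpi u] [EffectiveEpi v]
    (hv : (MorphismProperty.epimorphisms C).universally v) : EffectiveEpi (v ≫ u) := by
  have key : ∀ {W : C} (e : U ⟶ W) (h : ∀ {Z : C} (g₁ g₂ : Z ⟶ U), g₁ ≫ v ≫ u = g₂ ≫ v ≫ u → g₁ ≫ e = g₂ ≫ e),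
      ∃ d : S ⟶ W, (v ≫ u) ≫ d = e := by
    intro W e h
    have hve : v ≫ EffectiveEpi.desc v e (fun g₁ g₂ hg => h g₁ g₂ (by rw [reassoc_of% hg])) = e :=
      EffectiveEpi.fac _ _ _
    set d₁ := EffectiveEpi.desc v e (fun g₁ g₂ hg => h g₁ g₂ (by rw [reassoc_of% hg])) with hd₁
    suffices hu : ∀ {Z : C} (g₁ g₂ : Z ⟶ T), g₁ ≫ u = g₂ ≫ u → g₁ ≫ d₁ = g₂ ≫ d₁ from
      ⟨EffectiveEpi.desc u d₁ hu, by rw [Category.assoc, EffectiveEpi.fac, hve]⟩
    intro Z g₁ g₂ hg
    obtain ⟨Z', q, a₁, a₂, hq, h1, h2⟩ := exists_epi_lift hv g₁ g₂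
    rw [← cancel_epi q, ← reassoc_of% h1, ← reassoc_of% h2, hve]
    exact h a₁ a₂ (by rw [reassoc_of% h1, reassoc_of% h2, hg])
  choose d hd using @key
  refine ⟨⟨⟨fun e h => d e h, fun e h => hd e h, fun e h m hm => ?_⟩⟩⟩
  rw [← cancel_epi (v ≫ u), hm, hd]

theorem effectiveEpi_of_comp {U T S : C} (v : U ⟶ T) (u : T ⟶ S) [EffectiveEpi (v ≫ u)]
    (h : (MorphismProperty.epimorphisms C).universally (v ≫ u)) : EffectiveEpi u := by
  haveI : Epi u := epi_of_epi v u
  have key : ∀ {W : C} (e : T ⟶ W) (_ : ∀ {Z : C} (g₁ g₂ : Z ⟶ T), g₁ ≫ u = g₂ ≫ u → g₁ ≫ e = g₂ ≫ e),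
      ∃ d : S ⟶ W, u ≫ d = e := by
    intro W e he
    refine ⟨EffectiveEpi.desc (v ≫ u) (v ≫ e) (fun g₁ g₂ hg => ?_), ?_⟩
    · rw [← Category.assoc g₁ v e, ← Category.assoc g₂ v e]
      exact he _ _ (by simpa only [Category.assoc] using hg)
    have hfac : v ≫ u ≫ EffectiveEpi.desc (v ≫ u) (v ≫ e) (fun g₁ g₂ hg => by
        rw [← Category.assoc g₁ v e, ← Category.assoc g₂ v e]
        exact he _ _ (by simpa only [Category.assoc] using hg)) = v ≫ e := by
      rw [← Category.assoc]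
      exact EffectiveEpi.fac _ _ _
    haveI : Epi (pullback.snd (v ≫ u) u) := h _ _ _ (IsPullback.of_hasPullback _ _).flip
    have hc := he (pullback.fst (v ≫ u) u ≫ v) (pullback.snd (v ≫ u) u) (by
      rw [Category.assoc, pullback.condition])
    rw [← cancel_epi (pullback.snd (v ≫ u) u), ← hc, ← pullback.condition_assoc, Category.assoc, Category.assoc,
      hfac]
  choose d hd using @key
  exact ⟨⟨⟨fun e h => d e h, fun e h => hd e h, fun e h m hm => by rw [← cancel_epi u, hm, hd]⟩⟩⟩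

theorem UEE_comp {U T S : C} {v : U ⟶ T} {u : T ⟶ S} (hv : EE.universally v) (hu : EE.universally u) :
    EE.universally (v ≫ u) := by
  intro X' Y' i₁ i₂ f' hsq
  let l := pullback.lift (i₁ ≫ v) f' (by rw [Category.assoc, hsq.w])
  have hl : l ≫ pullback.snd u i₂ = f' := pullback.lift_snd _ _ _
  have hleft : IsPullback i₁ l v (pullback.fst u i₂) :=
    IsPullback.of_bot (by rw [hl]; exact hsq.flip.flip.flip) (pullback.lift_fst _ _ _).symm
      (IsPullback.of_hasPullback u i₂)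
  haveI := hu _ _ _ (IsPullback.of_hasPullback u i₂).flip
  haveI := hv _ _ _ hleft.flip
  rw [← hl]
  exact effectiveEpi_comp l _ (universally_epi_of_UEE (MorphismProperty.of_isPullback hleft hv))

theorem UEE_of_comp {U T S : C} {v : U ⟶ T} {u : T ⟶ S} (h : EE.universally (v ≫ u)) : EE.universally u := by
  intro X' Y' i₁ i₂ f' hsq
  have hp : IsPullback (pullback.fst v i₁) (pullback.snd v i₁ ≫ f') (v ≫ u) i₂ :=
    (IsPullback.of_hasPullback v i₁).paste_vert hsq.flip
  haveI := h _ _ _ hp.flip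
  exact effectiveEpi_of_comp (pullback.snd v i₁) f' (universally_epi_of_UEE (MorphismProperty.of_isPullback hp h))

/-- Monomorphisms descend along universal epimorphisms. -/
theorem mono_of_isPullback {X Y X' Y' : C} {g : X ⟶ Y} {g' : X' ⟶ Y'} {p : X' ⟶ X} {q : Y' ⟶ Y}
    (hsq : IsPullback g' p q g) (hq : EE.universally q) [Mono g'] : Mono g := by
  refine ⟨fun {Z} g₁ g₂ h => ?_⟩
  haveI : Epi (pullback.fst (g₁ ≫ g) q) := epi_of_UEE (UEE_pullback_fst hq _)
  rw [← cancel_epi (pullback.fst (g₁ ≫ g) q)]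
  have w : ∀ a : Z ⟶ X, a ≫ g = g₁ ≫ g → pullback.snd (g₁ ≫ g) q ≫ q = (pullback.fst (g₁ ≫ g) q ≫ a) ≫ g :=
    fun a ha => by rw [Category.assoc, ha, pullback.condition]
  have h1 := hsq.lift_fst _ _ (w g₁ rfl)
  have h2 := hsq.lift_fst _ _ (w g₂ h.symm)
  rw [← hsq.lift_snd _ _ (w g₁ rfl), ← hsq.lift_snd _ _ (w g₂ h.symm),
    show hsq.lift _ _ (w g₁ rfl) = hsq.lift _ _ (w g₂ h.symm) from (cancel_mono g').1 (h1.trans h2.symm)]

/-- Isomorphisms descend along universal effective epimorphisms. -/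
theorem isIso_of_isPullback {X Y X' Y' : C} {g : X ⟶ Y} {g' : X' ⟶ Y'} {p : X' ⟶ X} {q : Y' ⟶ Y}
    (hsq : IsPullback g' p q g) (hq : EE.universally q) [IsIso g'] : IsIso g := by
  haveI : Mono g := mono_of_isPullback hsq hq
  have hq' : (inv g' ≫ p) ≫ g = q := by rw [Category.assoc, ← hsq.w, IsIso.inv_hom_id_assoc]
  haveI : EffectiveEpi g := effectiveEpi_of_UEE (UEE_of_comp (v := inv g' ≫ p) (by rw [hq']; exact hq))
  have h : ∀ {Z : C} (g₁ g₂ : Z ⟶ X), g₁ ≫ g = g₂ ≫ g → g₁ ≫ 𝟙 X = g₂ ≫ 𝟙 X := fun g₁ g₂ h => by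
    rw [Category.comp_id, Category.comp_id, cancel_mono g |>.1 h]
  refine ⟨EffectiveEpi.desc g (𝟙 X) h, EffectiveEpi.fac _ _ h, ?_⟩
  rw [← cancel_epi g, reassoc_of% (EffectiveEpi.fac g (𝟙 X) h), Category.comp_id]

theorem isPullback_id_prod_map [HasBinaryProducts C] (A : C) {X Y : C} (f : X ⟶ Y) :
    IsPullback (prod.snd : A ⨯ X ⟶ X) (prod.map (𝟙 A) f) f prod.snd :=
  IsPullback.mk' (by simp) (fun T φ φ' h1 h2 => Limits.prod.hom_ext (by simpa using congrArg (· ≫ prod.fst) h2) h1)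
    fun T a b h => ⟨prod.lift (b ≫ prod.fst) a, prod.lift_snd _ _,
      Limits.prod.hom_ext (by rw [Category.assoc, prod.map_fst, Category.comp_id, prod.lift_fst])
        (by rw [Category.assoc, prod.map_snd, prod.lift_snd_assoc, h])⟩

end Groth.Agent.DescCat8
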